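import Mathlib
import Cfsg.Prelude.Def_GeometricClasses
import Cfsg.Agent.Lib.Lead.SPU.Defs

set_option autoImplicit false
set_option linter.unusedVariables false
set_option linter.unusedSectionVars false

/-!
# Project C3U (designer helper22) -> S5976 (3u): elements of prime order of `Sp_{2d}(q)`, `q` odd, and the subgroups `N(K)` of type `GU_d(q).2`

Concrete setting = that of project SPU (`Cfsg.Agent.Lib.Lead.SPU.JS j c0`: `j * j = c0 • 1`, `c0` a non-square, `j` skew-adjoint for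
`Cfsg.sympForm d F`, `2 ≠ 0`), obtained from the hypotheses of the statement by `Cfsg.Agent.Lib.Lead.SPU.setup` (file Helper20/SPUSETUP.lean):
`N(K) = {g | g j = j g ∨ g j = -(j g)}`.  Definitions only.
-/

namespace Cfsg.Agent.Lib.Helper22.C3U

open Matrix

universe u v

variable {F : Type u} [Field F]

/-- the standard structure `e_i ↦ f_i ↦ c0 e_i` on the standard symplectic space -/
def jstd (k : ℕ) (c0 : F) : (Fin k ⊕ Fin k → F) →ₗ[F] (Fin k ⊕ Fin k → F) where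
  toFun z := Sum.elim (fun i => c0 * z (Sum.inr i)) (fun i => z (Sum.inl i))
  map_add' x y := by
    funext s
    rcases s with i | i
    · simp only [Sum.elim_inl, Pi.add_apply, mul_add]
    · simp only [Sum.elim_inr, Pi.add_apply]
  map_smul' c x := by
    funext s
    rcases s with i | i
    · simp only [Sum.elim_inl, Pi.smul_apply, smul_eq_mul, RingHom.id_apply]; ring
    · simp only [Sum.elim_inr, Pi.smul_apply, smul_eq_mul, RingHom.id_apply]

theorem jstd_inl (k : ℕ) (c0 : F) (z : Fin k ⊕ Fin k → F) (i : Fin k) :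
    jstd k c0 z (Sum.inl i) = c0 * z (Sum.inr i) := rfl

theorem jstd_inr (k : ℕ) (c0 : F) (z : Fin k ⊕ Fin k → F) (i : Fin k) :
    jstd k c0 z (Sum.inr i) = z (Sum.inl i) := rfl

/-- the matrix of `jstd` -/
def jmat (d : ℕ) (c0 : F) : Matrix (Fin d ⊕ Fin d) (Fin d ⊕ Fin d) F :=
  Matrix.fromBlocks 0 (c0 • (1 : Matrix (Fin d) (Fin d) F)) 1 0

/-- the centralizer of the matrix `j` in `GL` -/
def cent {d : ℕ} (j : Matrix (Fin d ⊕ Fin d) (Fin d ⊕ Fin d) F) : Subgroup (GL (Fin d ⊕ Fin d) F) where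
  carrier := {g | (g : Matrix (Fin d ⊕ Fin d) (Fin d ⊕ Fin d) F) * j = j * (g : Matrix (Fin d ⊕ Fin d) (Fin d ⊕ Fin d) F)}
  mul_mem' := by
    intro a b ha hb
    simp only [Set.mem_ofPred_eq] at ha hb ⊢
    rw [Units.val_mul, Matrix.mul_assoc, hb, ← Matrix.mul_assoc, ha, Matrix.mul_assoc]
  one_mem' := by simp
  inv_mem' := by
    intro a ha
    simp only [Set.mem_ofPred_eq] at ha ⊢
    have h1 : ((a⁻¹ : GL (Fin d ⊕ Fin d) F) : Matrix (Fin d ⊕ Fin d) (Fin d ⊕ Fin d) F) *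
        (a : Matrix (Fin d ⊕ Fin d) (Fin d ⊕ Fin d) F) = 1 := Units.inv_mul a
    have h2 : (a : Matrix (Fin d ⊕ Fin d) (Fin d ⊕ Fin d) F) *
        ((a⁻¹ : GL (Fin d ⊕ Fin d) F) : Matrix (Fin d ⊕ Fin d) (Fin d ⊕ Fin d) F) = 1 := Units.mul_inv a
    calc ((a⁻¹ : GL (Fin d ⊕ Fin d) F) : Matrix (Fin d ⊕ Fin d) (Fin d ⊕ Fin d) F) * j
        = ((a⁻¹ : GL (Fin d ⊕ Fin d) F) : Matrix (Fin d ⊕ Fin d) (Fin d ⊕ Fin d) F) * j *
            ((a : Matrix (Fin d ⊕ Fin d) (Fin d ⊕ Fin d) F) *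
              ((a⁻¹ : GL (Fin d ⊕ Fin d) F) : Matrix (Fin d ⊕ Fin d) (Fin d ⊕ Fin d) F)) := by
          rw [h2, Matrix.mul_one]
      _ = ((a⁻¹ : GL (Fin d ⊕ Fin d) F) : Matrix (Fin d ⊕ Fin d) (Fin d ⊕ Fin d) F) *
            ((a : Matrix (Fin d ⊕ Fin d) (Fin d ⊕ Fin d) F) * j) *
              ((a⁻¹ : GL (Fin d ⊕ Fin d) F) : Matrix (Fin d ⊕ Fin d) (Fin d ⊕ Fin d) F) := by
          rw [ha]; simp only [Matrix.mul_assoc]
      _ = j * ((a⁻¹ : GL (Fin d ⊕ Fin d) F) : Matrix (Fin d ⊕ Fin d) (Fin d ⊕ Fin d) F) := by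
          rw [← Matrix.mul_assoc, h1, Matrix.one_mul]

theorem mem_cent {d : ℕ} (j : Matrix (Fin d ⊕ Fin d) (Fin d ⊕ Fin d) F) (g : GL (Fin d ⊕ Fin d) F) :
    g ∈ cent j ↔ (g : Matrix (Fin d ⊕ Fin d) (Fin d ⊕ Fin d) F) * j =
      j * (g : Matrix (Fin d ⊕ Fin d) (Fin d ⊕ Fin d) F) := Iff.rfl

/-- the abstract context of the key lemma: a space `W` with a non-degenerate alternating form `f`, a skew-adjoint `θ` with `θ² = ν`
(`ν` a non-square) and an isometry `y` of order dividing `r` commuting with `θ` and without non-zero fixed vectors. -/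
structure UCtx {W : Type v} [AddCommGroup W] [Module F W] (f : W →ₗ[F] W →ₗ[F] F) (y θ : Module.End F W)
    (ν : F) (r : ℕ) : Prop where
  alt : ∀ u, f u u = 0
  nd : ∀ u, (∀ w, f u w = 0) → u = 0
  sq : θ * θ = ν • (1 : Module.End F W)
  nsq : ¬ IsSquare ν
  adj : ∀ u w, f (θ u) w = - f u (θ w)
  comm : y * θ = θ * y
  iso : ∀ u w, f (y u) (y w) = f u w
  pow : y ^ r = 1
  fpf : ∀ w, y w = w → w = 0

end Cfsg.Agent.Lib.Helper22.C3U
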